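import Mathlib.Topology.Connected.Clopen
import Mathlib.Topology.Connected.Basic
import Mathlib.LinearAlgebra.Eigenspace.Triangularizable
import Mathlib.LinearAlgebra.Eigenspace.Minpoly
import Mathlib.LinearAlgebra.Determinant
import Mathlib.GroupTheory.Solvable
import Mathlib.RingTheory.Polynomial.Basic
import Mathlib.LinearAlgebra.Dual.Lemmas
import Mathlib.RingTheory.IntegralDomain

/-!
# The theorem of Lie and Kolchin, abstractly

A solvable group with a topology in which translations, inversion and `x ↦ x y x⁻¹` are continuous and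
which is preconnected has a common eigenvector in every representation with closed level sets of matrix
coefficients.
-/

set_option autoImplicit false

universe u v w

namespace Groth.Agent.LieKolchin

open Module
open scoped commutatorElement

/-- Matrix coefficients have closed level sets. -/
def Adm {k : Type u} [Field k] {G : Type v} [Group G] [TopologicalSpace G] {V : Type w} [AddCommGroup V]
    [Module k V] (ρ : G →* Module.End k V) : Prop :=
  ∀ (v : V) (f : Module.Dual k V) (c : k), IsClosed {x : G | f (ρ x v) = c}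

/-- The continuity properties of a group of points in its Zariski topology. -/
structure GoodTop (G : Type v) [Group G] [TopologicalSpace G] : Prop where
  left : ∀ y : G, Continuous fun x : G => y * x
  inv : Continuous fun x : G => x⁻¹
  conj : ∀ y : G, Continuous fun x : G => x * y * x⁻¹
  comm : ∀ y : G, Continuous fun x : G => x * y * x⁻¹ * y⁻¹

variable {k : Type u} [Field k] {G : Type v} [Group G] [TopologicalSpace G]

theorem GoodTop.subgroup (hG : GoodTop G) (H : Subgroup G) : GoodTop H := by
  refine ⟨fun y => ?_, ?_, fun y => ?_, fun y => ?_⟩ <;> refine Topology.IsInducing.subtypeVal.continuous_iff.2 ?_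
  · exact (hG.left y).comp continuous_subtype_val
  · exact hG.inv.comp continuous_subtype_val
  · exact (hG.conj y).comp continuous_subtype_val
  · exact (hG.comm y).comp continuous_subtype_val

/-- A function with closed level sets and finitely many values on a preconnected space is constant. -/
theorem eq_of_finite_values {X Y : Type*} [TopologicalSpace X] [PreconnectedSpace X] (f : X → Y)
    (hfin : (Set.range f).Finite) (hcl : ∀ c, IsClosed (f ⁻¹' {c})) (x y : X) : f x = f y := by
  have hc : IsClopen (f ⁻¹' {f y}) := by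
    refine ⟨hcl _, ?_⟩
    rw [← isClosed_compl_iff]
    have : (f ⁻¹' {f y})ᶜ = ⋃ c ∈ (Set.range f \ {f y}), f ⁻¹' {c} := by
      ext z
      simp only [Set.mem_compl_iff, Set.mem_preimage, Set.mem_singleton_iff, Set.mem_iUnion, Set.mem_sdiff,
        Set.mem_range]
      exact ⟨fun h => ⟨f z, ⟨⟨z, rfl⟩, h⟩, rfl⟩, fun ⟨c, ⟨_, h⟩, e⟩ => e ▸ h⟩
    rw [this]
    exact (hfin.subset Set.sdiff_subset).isClosed_biUnion fun c _ => hcl c
  exact (Set.ext_iff.1 (hc.eq_univ ⟨y, rfl⟩) x).2 trivial

theorem preconnected_closure (hG : GoodTop G) (S : Set G) (hS : IsPreconnected S) (h1 : (1 : G) ∈ S) :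
    IsPreconnected (Subgroup.closure S : Set G) := by
  set H := Subgroup.closure S
  suffices h : ∀ x ∈ H, x ∈ connectedComponentIn (H : Set G) 1 by
    have : (H : Set G) = connectedComponentIn (H : Set G) 1 :=
      Set.Subset.antisymm h (connectedComponentIn_subset _ _)
    rw [this]
    exact isPreconnected_connectedComponentIn
  have step : ∀ (x : G), x ∈ H → x ∈ connectedComponentIn (H : Set G) 1 → ∀ g : G → G, Continuous g → g 1 = x →
      (∀ s ∈ S, g s ∈ H) → ∀ s ∈ S, g s ∈ connectedComponentIn (H : Set G) 1 := by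
    intro x hxH hx g hg hg1 hgH s hs
    have hsub : g '' S ⊆ connectedComponentIn (H : Set G) x :=
      (hS.image g hg.continuousOn).subset_connectedComponentIn ⟨1, h1, hg1⟩ (by rintro _ ⟨t, ht, rfl⟩; exact hgH t ht)
    rw [connectedComponentIn_eq hx]
    exact hsub ⟨s, hs, rfl⟩
  intro x hx
  induction hx using Subgroup.closure_induction_right with
  | one => exact mem_connectedComponentIn H.one_mem
  | mul_right x hx y hy ih =>
    exact step x hx ih (fun s => x * s) (hG.left x) (mul_one x)
      (fun s hs => H.mul_mem hx (Subgroup.subset_closure hs)) y hy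
  | mul_inv_cancel x hx y hy ih =>
    exact step x hx ih (fun s => x * s⁻¹) ((hG.left x).comp hG.inv) (by simp)
      (fun s hs => H.mul_mem hx (H.inv_mem (Subgroup.subset_closure hs))) y hy

theorem preconnected_commutator [PreconnectedSpace G] (hG : GoodTop G) :
    PreconnectedSpace (commutator G) := by
  let S : Set G := ⋃ y : G, Set.range fun x : G => x * y * x⁻¹ * y⁻¹
  have hS : IsPreconnected S := isPreconnected_iUnion
    ⟨1, Set.mem_iInter.2 fun y => ⟨1, by simp⟩⟩ fun y => isPreconnected_range (hG.comm y)
  have hS' : commutator G = Subgroup.closure S := by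
    rw [commutator_eq_closure]
    congr 1
    ext z
    simp only [S, Set.mem_iUnion, Set.mem_range, mem_commutatorSet_iff, commutatorElement_def]
    exact ⟨fun ⟨a, b, h⟩ => ⟨b, a, h⟩, fun ⟨b, a, h⟩ => ⟨a, b, h⟩⟩
  refine Subtype.preconnectedSpace ?_
  rw [show (commutator G : Set G) = (Subgroup.closure S : Set G) by rw [hS']]
  exact preconnected_closure hG S hS (Set.mem_iUnion.2 ⟨1, ⟨1, by simp⟩⟩)

theorem map_derivedSeries_commutator {G : Type v} [Group G] (n : ℕ) :
    (derivedSeries (commutator G) n).map (commutator G).subtype = derivedSeries G (n + 1) := by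
  induction n with
  | zero => rw [derivedSeries_zero, ← MonoidHom.range_eq_map, Subgroup.range_subtype, derivedSeries_one]
  | succ n ih => rw [derivedSeries_succ, Subgroup.map_commutator, ih, ← derivedSeries_succ]

theorem Adm.isClosed_eq {V : Type w} [AddCommGroup V] [Module k V] {ρ : G →* Module.End k V} (hρ : Adm ρ)
    (v w : V) : IsClosed {x : G | ρ x v = w} := by
  have : {x : G | ρ x v = w} = ⋂ f : Module.Dual k V, {x : G | f (ρ x v) = f w} := by
    ext x
    simp only [Set.mem_ofPred_eq, Set.mem_iInter]
    exact ⟨fun h f => by rw [h], fun h => by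
      rw [← sub_eq_zero, ← Module.forall_dual_apply_eq_zero_iff k]
      intro f; rw [map_sub, h f, sub_self]⟩
  rw [this]
  exact isClosed_iInter fun f => hρ v f _

/-- The representation on a stable subspace. -/
def restrictRep {V : Type w} [AddCommGroup V] [Module k V] (ρ : G →* Module.End k V) (W : Submodule k V)
    (hW : ∀ x, ∀ w ∈ W, ρ x w ∈ W) : G →* Module.End k W where
  toFun x := (ρ x).restrict (hW x)
  map_one' := LinearMap.ext fun w => Subtype.ext (by simp)
  map_mul' x y := LinearMap.ext fun w => Subtype.ext (by simp)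

/-- A commuting group of operators has a common eigenvector in every nonzero stable subspace. -/
theorem exists_eigen_of_commute [IsAlgClosed k] {G : Type v} [Group G] {V : Type w} [AddCommGroup V] [Module k V]
    [FiniteDimensional k V] (ρ : G →* Module.End k V) (W : Submodule k V) (hW0 : W ≠ ⊥)
    (hW : ∀ x, ∀ w ∈ W, ρ x w ∈ W) (hc : ∀ x y, ∀ w ∈ W, ρ x (ρ y w) = ρ y (ρ x w)) :
    ∃ v ∈ W, v ≠ 0 ∧ ∀ x, ρ x v ∈ Submodule.span k {v} := by
  classical
  have hex : ∃ n, ∃ U : Submodule k V, U ≤ W ∧ U ≠ ⊥ ∧ (∀ x, ∀ w ∈ U, ρ x w ∈ U) ∧ Module.finrank k U = n :=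
    ⟨_, W, le_rfl, hW0, hW, rfl⟩
  obtain ⟨U, hUW, hU0, hU, hUn⟩ := Nat.find_spec hex
  obtain ⟨v, hv, hv0⟩ := (Submodule.ne_bot_iff U).1 hU0
  refine ⟨v, hUW hv, hv0, fun x => ?_⟩
  haveI : Nontrivial U := Submodule.nontrivial_iff_ne_bot.2 hU0
  obtain ⟨c, hcx⟩ := Module.End.exists_eigenvalue ((ρ x).restrict (hU x))
  obtain ⟨u, hu, hu0⟩ := hcx.exists_hasEigenvector
  rw [Module.End.mem_eigenspace_iff] at hu
  let E : Submodule k V := U ⊓ Module.End.eigenspace (ρ x) c
  have hE0 : E ≠ ⊥ := (Submodule.ne_bot_iff E).2
    ⟨u, ⟨u.2, Module.End.mem_eigenspace_iff.2 (congrArg Subtype.val hu)⟩, by simpa using hu0⟩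
  have hE : ∀ y, ∀ w ∈ E, ρ y w ∈ E := fun y w hw => by
    obtain ⟨hwU, hwc⟩ := hw
    refine ⟨hU y w hwU, Module.End.mem_eigenspace_iff.2 ?_⟩
    rw [hc x y w (hUW hwU), Module.End.mem_eigenspace_iff.1 hwc, map_smul]
  have hle := Nat.find_min' hex ⟨E, inf_le_left.trans hUW, hE0, hE, rfl⟩
  rw [← hUn] at hle
  have hEU : E = U := Submodule.eq_of_le_of_finrank_le inf_le_left hle
  have : v ∈ Module.End.eigenspace (ρ x) c := (hEU.symm ▸ hv : v ∈ E).2
  rw [Module.End.mem_eigenspace_iff.1 this]
  exact Submodule.smul_mem _ _ (Submodule.mem_span_singleton_self v)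

variable [IsAlgClosed k]

/-- **Lie–Kolchin**. -/
theorem exists_common_eigen (n : ℕ) : ∀ (G : Type v) [Group G] [TopologicalSpace G] [PreconnectedSpace G],
    GoodTop G → derivedSeries G n = ⊥ → ∀ (V : Type w) [AddCommGroup V] [Module k V] [FiniteDimensional k V]
    [Nontrivial V] (ρ : G →* Module.End k V), Adm ρ →
    ∃ v : V, v ≠ 0 ∧ ∀ x, ρ x v ∈ Submodule.span k {v} := by
  induction n with
  | zero =>
    intro G _ _ _ _ hn V _ _ _ _ ρ _
    obtain ⟨v, hv⟩ := exists_ne (0 : V)
    refine ⟨v, hv, fun x => ?_⟩
    have hx : x = 1 := Subgroup.mem_bot.1 (hn ▸ (derivedSeries_zero G).symm ▸ Subgroup.mem_top x)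
    rw [hx, map_one]
    exact Submodule.mem_span_singleton_self v
  | succ n ih =>
    intro G _ _ _ hG hn V _ _ _ _ ρ hρ
    classical
    set D := commutator G
    haveI : PreconnectedSpace D := preconnected_commutator hG
    have hDn : derivedSeries D n = ⊥ := by
      rw [← Subgroup.map_eq_bot_iff_of_injective _ D.subtype_injective, map_derivedSeries_commutator, hn]
    obtain ⟨v, hv0, hv⟩ := ih D (hG.subgroup D) hDn V (ρ.comp D.subtype)
      (fun a f c => (hρ a f c).preimage continuous_subtype_val)
    choose χ hχ using fun y : D => Submodule.mem_span_singleton.1 (hv y)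
    simp only [MonoidHom.comp_apply, Subgroup.coe_subtype] at hχ
    have hmem : ∀ (x : G) (y : D), x⁻¹ * y * x ∈ D := fun x y => by
      simpa using (inferInstance : D.Normal).conj_mem _ y.2 x⁻¹
    -- the eigencharacter is invariant under conjugation
    have hinv : ∀ (x : G) (y : D), χ ⟨x⁻¹ * y * x, hmem x y⟩ = χ y := by
      intro x y
      have key := eq_of_finite_values (fun x => χ ⟨x⁻¹ * y * x, hmem x y⟩) ?_ ?_ x 1
      · simpa using key
      · refine (Module.End.finite_hasEigenvalue (ρ y)).subset ?_
        rintro _ ⟨z, rfl⟩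
        refine Module.End.hasEigenvalue_of_hasEigenvector (x := ρ z v) ⟨?_, ?_⟩
        · rw [Module.End.mem_eigenspace_iff, ← map_smul, hχ, ← Module.End.mul_apply, ← Module.End.mul_apply,
            ← map_mul, ← map_mul]
          simp [mul_assoc]
        · intro h0
          apply hv0
          have := congrArg (ρ z⁻¹) h0
          rwa [map_zero, ← Module.End.mul_apply, ← map_mul, inv_mul_cancel, map_one] at this
      · intro c
        have : (fun x => χ ⟨x⁻¹ * y * x, hmem x y⟩) ⁻¹' {c} =
            (fun x : G => x⁻¹ * y * x) ⁻¹' {z | ρ z v = c • v} := by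
          ext x
          simp only [Set.mem_preimage, Set.mem_singleton_iff, Set.mem_ofPred_eq]
          rw [show ρ (x⁻¹ * y * x) v = χ ⟨x⁻¹ * y * x, hmem x y⟩ • v from (hχ ⟨_, hmem x y⟩).symm]
          exact ⟨fun h => by rw [h], fun h => smul_left_injective k hv0 h⟩
        rw [this]
        refine (hρ.isClosed_eq v (c • v)).preimage ?_
        simpa [Function.comp_def] using (hG.conj y).comp hG.inv
    -- the space of common eigenvectors
    let W : Submodule k V := ⨅ y : D, Module.End.eigenspace (ρ y) (χ y)
    have hW : ∀ x, ∀ w ∈ W, ρ x w ∈ W := fun x w hw => by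
      rw [Submodule.mem_iInf] at hw ⊢
      intro y
      have h1 := Module.End.mem_eigenspace_iff.1 (hw ⟨x⁻¹ * y * x, hmem x y⟩)
      rw [hinv] at h1
      rw [Module.End.mem_eigenspace_iff, ← map_smul, ← h1, ← Module.End.mul_apply, ← Module.End.mul_apply,
        ← map_mul, ← map_mul]
      simp [mul_assoc]
    have hvW : v ∈ W := Submodule.mem_iInf _ |>.2 fun y => Module.End.mem_eigenspace_iff.2 (hχ y).symm
    have hW0 : W ≠ ⊥ := (Submodule.ne_bot_iff W).2 ⟨v, hvW, hv0⟩
    -- the eigencharacter is a root of unity of bounded order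
    let ρW := restrictRep ρ W hW
    have hroot : ∀ y : D, χ y ^ Module.finrank k W = 1 := by
      intro y
      have hscal : ρW y = χ y • (1 : Module.End k W) := LinearMap.ext fun w => Subtype.ext (by
        have := Module.End.mem_eigenspace_iff.1 ((Submodule.mem_iInf _).1 w.2 y)
        simpa [ρW, restrictRep] using this)
      have h1 : ((LinearMap.det : Module.End k W →* k).comp ρW).toHomUnits y = 1 :=
        MonoidHom.mem_ker.1 (Abelianization.commutator_subset_ker _ y.2)
      have h2 := congrArg Units.val h1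
      rw [MonoidHom.coe_toHomUnits, MonoidHom.comp_apply, hscal, LinearMap.det_smul, map_one, mul_one,
        Units.val_one] at h2
      exact h2
    have hone : ∀ y : D, χ y = 1 := by
      intro y
      have key := eq_of_finite_values χ ?_ ?_ y 1
      · rw [key]
        have h1 := hχ 1
        rw [OneMemClass.coe_one, map_one, Module.End.one_apply] at h1
        exact smul_left_injective k hv0 (by simpa using h1)
      · haveI : Nontrivial W := Submodule.nontrivial_iff_ne_bot.2 hW0
        refine (Polynomial.nthRootsFinset (Module.finrank k W) (1 : k)).finite_toSet.subset ?_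
        rintro _ ⟨z, rfl⟩
        exact (Polynomial.mem_nthRootsFinset Module.finrank_pos _).2 (hroot z)
      · intro c
        have : χ ⁻¹' {c} = Subtype.val ⁻¹' {z : G | ρ z v = c • v} := by
          ext z
          simp only [Set.mem_preimage, Set.mem_singleton_iff, Set.mem_ofPred_eq, ← hχ z]
          exact ⟨fun h => by rw [h], fun h => smul_left_injective k hv0 h⟩
        rw [this]
        exact (hρ.isClosed_eq v _).preimage continuous_subtype_val
    have hcomm : ∀ x y, ∀ w ∈ W, ρ x (ρ y w) = ρ y (ρ x w) := by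
      intro x y w hw
      have hz : x * y * x⁻¹ * y⁻¹ ∈ D := Subgroup.commutator_mem_commutator (Subgroup.mem_top x) (Subgroup.mem_top y)
      have h1 := Module.End.mem_eigenspace_iff.1 ((Submodule.mem_iInf _).1 (hW y _ (hW x w hw)) ⟨_, hz⟩)
      rw [hone, one_smul] at h1
      rw [← h1, ← Module.End.mul_apply, ← Module.End.mul_apply, ← Module.End.mul_apply, ← map_mul, ← map_mul,
        ← map_mul]
      congr 2
      group
    obtain ⟨u, -, hu0, hu⟩ := exists_eigen_of_commute ρ W hW0 hW hcomm
    exact ⟨u, hu0, hu⟩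

/-- The representation on the quotient by a stable subspace. -/
def quotRep {V : Type w} [AddCommGroup V] [Module k V] (ρ : G →* Module.End k V) (W : Submodule k V)
    (hW : ∀ x, ∀ w ∈ W, ρ x w ∈ W) : G →* Module.End k (V ⧸ W) where
  toFun x := W.mapQ W (ρ x) (hW x)
  map_one' := by ext w; simp
  map_mul' x y := by ext w; simp

/-- Commutators act unipotently. -/
theorem isNilpotent_sub_one [PreconnectedSpace G] (hG : GoodTop G) (n : ℕ) (hn : derivedSeries G n = ⊥)
    (g : G) (hg : g ∈ commutator G) : ∀ (d : ℕ) (V : Type w) [AddCommGroup V] [Module k V] [FiniteDimensional k V]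
    (ρ : G →* Module.End k V), Adm ρ → Module.finrank k V = d → IsNilpotent (ρ g - 1) := by
  intro d
  induction d using Nat.strong_induction_on with
  | _ d ih =>
    intro V _ _ _ ρ hρ hd
    rcases subsingleton_or_nontrivial V with h | h
    · exact ⟨1, LinearMap.ext fun w => Subsingleton.elim _ _⟩
    obtain ⟨v, hv0, hv⟩ := exists_common_eigen n G hG hn V ρ hρ
    set L := Submodule.span k {v}
    have hL : ∀ x, ∀ w ∈ L, ρ x w ∈ L := fun x w hw => by
      obtain ⟨r, rfl⟩ := Submodule.mem_span_singleton.1 hw
      rw [map_smul]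
      exact Submodule.smul_mem _ _ (hv x)
    have hq : Adm (quotRep ρ L hL) := fun a f c => by
      obtain ⟨a, rfl⟩ := L.mkQ_surjective a
      exact hρ a (f ∘ₗ L.mkQ) c
    have hlt : Module.finrank k (V ⧸ L) < d := by
      have h1 := Submodule.finrank_quotient_add_finrank L
      rw [finrank_span_singleton hv0] at h1
      omega
    obtain ⟨m, hm⟩ := ih _ hlt (V ⧸ L) (quotRep ρ L hL) hq rfl
    -- g fixes v
    choose c hc using fun x => Submodule.mem_span_singleton.1 (hv x)
    let cHom : G →* k :=
      { toFun := c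
        map_one' := smul_left_injective k hv0 (by simp [hc])
        map_mul' := fun x y => smul_left_injective k hv0 (by
          show c (x * y) • v = (c x * c y) • v
          rw [hc, map_mul, Module.End.mul_apply, ← hc y, map_smul, ← hc x, smul_smul, mul_comm (c y)]) }
    have hgv : ρ g v = v := by
      have h1 : cHom.toHomUnits g = 1 := MonoidHom.mem_ker.1 (Abelianization.commutator_subset_ker _ hg)
      rw [← hc g, show c g = 1 from congrArg Units.val h1, one_smul]
    refine ⟨m + 1, LinearMap.ext fun w => ?_⟩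
    have hcomp : ∀ (j : ℕ) (w : V), L.mkQ (((ρ g - 1) ^ j) w) = ((quotRep ρ L hL g - 1) ^ j) (L.mkQ w) := by
      intro j
      induction j with
      | zero => simp
      | succ j ihj =>
        intro w
        rw [pow_succ', pow_succ', Module.End.mul_apply, Module.End.mul_apply, ← ihj]
        simp [quotRep]
    have hmem : ((ρ g - 1) ^ m) w ∈ L := by
      rw [← Submodule.Quotient.mk_eq_zero, ← Submodule.mkQ_apply, hcomp, hm, LinearMap.zero_apply]
    obtain ⟨r, hr⟩ := Submodule.mem_span_singleton.1 hmem
    rw [pow_succ', Module.End.mul_apply, ← hr, map_smul, LinearMap.sub_apply, hgv, Module.End.one_apply, sub_self,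
      smul_zero, LinearMap.zero_apply]

omit [IsAlgClosed k] in
/-- A representation with an invariant flag has solvable image. -/
theorem exists_derivedSeries_le_ker {G : Type v} [Group G] {V : Type w} [AddCommGroup V] [Module k V]
    [FiniteDimensional k V] (ρ : G →* Module.End k V) (P : Submodule k V → Prop) (hP0 : P ⊥)
    (h : ∀ U : Submodule k V, P U → U ≠ ⊤ →
      ∃ v, v ∉ U ∧ P (U ⊔ Submodule.span k {v}) ∧ ∀ x, ρ x v ∈ U ⊔ Submodule.span k {v}) :
    ∃ n, ∀ g ∈ derivedSeries G n, ρ g = 1 := by
  classical
  suffices key : ∀ (d : ℕ) (U : Submodule k V), Module.finrank k V - Module.finrank k U = d →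
      P U → (∀ x, ∀ w ∈ U, ρ x w ∈ U) → (∃ n, ∀ g ∈ derivedSeries G n, ∀ w ∈ U, ρ g w = w) →
      ∃ n, ∀ g ∈ derivedSeries G n, ρ g = 1 from
    key _ ⊥ rfl hP0 (by simp) ⟨0, by simp⟩
  intro d
  induction d using Nat.strong_induction_on with
  | _ d ih =>
    rintro U hd hPU hU ⟨n, hn⟩
    by_cases htop : U = ⊤
    · exact ⟨n, fun g hg => LinearMap.ext fun w => hn g hg w (htop ▸ Submodule.mem_top)⟩
    obtain ⟨v, hvU, hPU', hv⟩ := h U hPU htop
    set U' := U ⊔ Submodule.span k {v}
    have hU' : ∀ x, ∀ w ∈ U', ρ x w ∈ U' := by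
      intro x w hw
      obtain ⟨a, ha, b, hb, rfl⟩ := Submodule.mem_sup.1 hw
      obtain ⟨r, rfl⟩ := Submodule.mem_span_singleton.1 hb
      rw [map_add, map_smul]
      exact add_mem (Submodule.mem_sup_left (hU x a ha)) (Submodule.smul_mem _ _ (hv x))
    have hdec : ∀ x, ∃ (c : k) (u : V), u ∈ U ∧ ρ x v = u + c • v := fun x => by
      obtain ⟨a, ha, b, hb, hab⟩ := Submodule.mem_sup.1 (hv x)
      obtain ⟨r, rfl⟩ := Submodule.mem_span_singleton.1 hb
      exact ⟨r, a, ha, hab.symm⟩
    choose c u huU hcu using hdec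
    have huniq : ∀ {a b : V} {r s : k}, a ∈ U → b ∈ U → a + r • v = b + s • v → r = s := by
      intro a b r s ha hb hab
      by_contra hne
      apply hvU
      have : (r - s) • v ∈ U := by
        have h1 : (r - s) • v = b - a := by
          rw [sub_smul, eq_sub_iff_add_eq, sub_add_eq_add_sub, add_comm (r • v), hab, add_sub_cancel_right]
        rw [h1]; exact sub_mem hb ha
      have := U.smul_mem (r - s)⁻¹ this
      rwa [inv_smul_smul₀ (sub_ne_zero.2 hne)] at this
    let cHom : G →* k :=
      { toFun := c
        map_one' := huniq (huU 1) (zero_mem U) (by rw [← hcu, map_one, Module.End.one_apply, zero_add, one_smul])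
        map_mul' := fun x y => huniq (huU (x * y)) (add_mem (hU x _ (huU y)) (U.smul_mem (c y) (huU x))) (by
          show u (x * y) + c (x * y) • v = ρ x (u y) + c y • u x + (c x * c y) • v
          rw [← hcu, map_mul, Module.End.mul_apply, hcu y, map_add, map_smul, hcu x, smul_add, smul_smul,
            mul_comm (c x), add_assoc]) }
    have hfix : ∀ g ∈ derivedSeries G (n + 1), ρ g v = u g + v ∧ ∀ a ∈ U, ρ g a = a := fun g hg => by
      refine ⟨?_, hn g (derivedSeries_antitone G (Nat.le_succ n) hg)⟩
      have hgc : g ∈ commutator G := by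
        rw [← derivedSeries_one]
        exact derivedSeries_antitone G (Nat.le_add_left 1 n) hg
      have h1 : cHom.toHomUnits g = 1 := MonoidHom.mem_ker.1 (Abelianization.commutator_subset_ker _ hgc)
      rw [hcu g, show c g = 1 from congrArg Units.val h1, one_smul]
    have hcomm : ∀ a ∈ derivedSeries G (n + 1), ∀ b ∈ derivedSeries G (n + 1), ∀ w ∈ U',
        ρ (a * b) w = ρ (b * a) w := by
      intro a ha b hb w hw
      obtain ⟨p, hp, q, hq, rfl⟩ := Submodule.mem_sup.1 hw
      obtain ⟨r, rfl⟩ := Submodule.mem_span_singleton.1 hq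
      obtain ⟨ha1, ha2⟩ := hfix a ha
      obtain ⟨hb1, hb2⟩ := hfix b hb
      simp only [map_mul, Module.End.mul_apply, map_add, map_smul, ha1, hb1, ha2 p hp, hb2 p hp, ha2 _ (huU b),
        hb2 _ (huU a)]
      rw [add_left_comm (u b)]
    have hlt : Module.finrank k V - Module.finrank k U' < d := by
      have h1 : Module.finrank k U < Module.finrank k U' := Submodule.finrank_lt_finrank_of_lt
        (lt_of_le_of_ne le_sup_left fun e => hvU (e ▸ Submodule.mem_sup_right (Submodule.mem_span_singleton_self v)))
      have h2 := U'.finrank_le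
      omega
    refine ih _ hlt U' rfl hPU' hU' ⟨n + 2, ?_⟩
    intro g hg
    rw [derivedSeries_succ, Subgroup.commutator_def] at hg
    induction hg using Subgroup.closure_induction with
    | mem x hx =>
      obtain ⟨a, ha, b, hb, rfl⟩ := hx
      intro w hw
      have h1 := hcomm a ha b hb (ρ (a⁻¹ * b⁻¹) w) (hU' _ w hw)
      simp only [← Module.End.mul_apply, ← map_mul] at h1
      rw [show ⁅a, b⁆ = a * b * (a⁻¹ * b⁻¹) by rw [commutatorElement_def]; group, h1]
      simp [mul_assoc]
    | one => simp
    | mul x y _ _ hx hy => intro w hw; rw [map_mul, Module.End.mul_apply, hy w hw, hx w hw]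
    | inv x _ hx =>
      intro w hw
      conv_lhs => rw [← hx w hw]
      rw [← Module.End.mul_apply, ← map_mul, inv_mul_cancel, map_one, Module.End.one_apply]

end Groth.Agent.LieKolchin
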