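import Mathlib
import Groth.Agent.LieKolchin.Basic
import Groth.Agent.Comod.Basic

/-!
# The Zariski topology on the rational points of an affine group, and representations from comodules
-/

set_option autoImplicit false

universe u v w

open TensorProduct WithConv

noncomputable section

namespace Groth.Agent.LieKolchin

variable {k : Type u} [Field k] {A : Type v} [CommRing A] [HopfAlgebra k A]

/-- the rational points -/
abbrev Pts (k : Type u) [Field k] (A : Type v) [CommRing A] [HopfAlgebra k A] := WithConv (A →ₐ[k] k)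

/-- the prime of a rational point -/
def toPrime (x : Pts k A) : PrimeSpectrum A := ⟨RingHom.ker x.ofConv.toRingHom, RingHom.ker_isPrime _⟩

/-- the Zariski topology on rational points -/
abbrev zariski : TopologicalSpace (Pts k A) := TopologicalSpace.induced toPrime inferInstance

theorem continuous_of_endo (f : Pts k A → Pts k A) (α : A →ₐ[k] A)
    (h : ∀ x, (f x).ofConv = x.ofConv.comp α) :
    letI := zariski (k := k) (A := A); Continuous f := by
  letI := zariski (k := k) (A := A)
  refine continuous_induced_rng.2 ?_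
  have : toPrime ∘ f = PrimeSpectrum.comap α.toRingHom ∘ toPrime := by
    funext x
    ext a
    simp [toPrime, h x, RingHom.mem_ker]
  rw [this]
  exact (PrimeSpectrum.continuous_comap _).comp continuous_induced_dom

/-- evaluation of endomorphisms at a point -/
def evalAt (x : Pts k A) : WithConv (A →ₐ[k] A) →* Pts k A where
  toFun e := toConv (x.ofConv.comp e.ofConv)
  map_one' := WithConv.ext <| AlgHom.ext fun a => by simp
  map_mul' a b := WithConv.ext <| AlgHom.comp_convMul_distrib _ _ _

@[simp] theorem evalAt_id (x : Pts k A) : evalAt x (toConv (AlgHom.id k A)) = x := rfl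

@[simp] theorem evalAt_const (x y : Pts k A) :
    evalAt x (toConv ((Algebra.ofId k A).comp y.ofConv)) = y := by
  apply WithConv.ext
  ext a
  simp [evalAt]

theorem goodTop : letI := zariski (k := k) (A := A); GoodTop (Pts k A) := by
  letI := zariski (k := k) (A := A)
  let i : WithConv (A →ₐ[k] A) := toConv (AlgHom.id k A)
  let c : Pts k A → WithConv (A →ₐ[k] A) := fun y => toConv ((Algebra.ofId k A).comp y.ofConv)
  have key : ∀ e : WithConv (A →ₐ[k] A), Continuous fun x : Pts k A => evalAt x e :=
    fun e => continuous_of_endo _ e.ofConv fun x => rfl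
  refine ⟨fun y => ?_, ?_, fun y => ?_, fun y => ?_⟩
  · simpa [i, c, map_mul] using key (c y * i)
  · simpa [i, c, map_inv] using key i⁻¹
  · simpa [i, c, map_mul, map_inv] using key (i * c y * i⁻¹)
  · simpa [i, c, map_mul, map_inv] using key (i * c y * i⁻¹ * (c y)⁻¹)

theorem isClosed_setOf_eq (a : A) (c : k) :
    letI := zariski (k := k) (A := A); IsClosed {x : Pts k A | x.ofConv a = c} := by
  letI := zariski (k := k) (A := A)
  have : {x : Pts k A | x.ofConv a = c} = toPrime ⁻¹' PrimeSpectrum.zeroLocus {a - algebraMap k A c} := by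
    ext x
    simp [toPrime, PrimeSpectrum.mem_zeroLocus, RingHom.mem_ker, sub_eq_zero]
  rw [this]
  exact (PrimeSpectrum.isClosed_zeroLocus _).preimage continuous_induced_dom

theorem preconnected [IsAlgClosed k] [Algebra.FiniteType k A]
    (hconn : ∀ e : A, IsIdempotentElem e → e = 0 ∨ e = 1) :
    letI := zariski (k := k) (A := A); PreconnectedSpace (Pts k A) := by
  letI := zariski (k := k) (A := A)
  haveI : IsJacobsonRing A := isJacobsonRing_of_finiteType (A := k)
  have hsurj : ∀ p : PrimeSpectrum A, p ∈ closedPoints (PrimeSpectrum A) → ∃ x : Pts k A, toPrime x = p := by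
    intro p hp
    have hmax : p.asIdeal.IsMaximal := (PrimeSpectrum.isClosed_singleton_iff_isMaximal p).1 hp
    letI : Field (A ⧸ p.asIdeal) := Ideal.Quotient.field _
    haveI : Algebra.FiniteType k (A ⧸ p.asIdeal) :=
      Algebra.FiniteType.of_surjective (Ideal.Quotient.mkₐ k p.asIdeal) (Ideal.Quotient.mkₐ_surjective k _)
    haveI : Module.Finite k (A ⧸ p.asIdeal) := finite_of_finite_type_of_isJacobsonRing k _
    have hbij := IsAlgClosed.algebraMap_bijective_of_isIntegral (k := k) (K := A ⧸ p.asIdeal)
    let e := (AlgEquiv.ofBijective (Algebra.ofId k _) hbij).symm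
    refine ⟨toConv ((e : A ⧸ p.asIdeal →ₐ[k] k).comp (Ideal.Quotient.mkₐ k p.asIdeal)), ?_⟩
    ext a
    simp [toPrime, RingHom.mem_ker, Ideal.Quotient.eq_zero_iff_mem]
  rw [preconnectedSpace_iff_clopen]
  intro s hs
  obtain ⟨U, hU, hUs⟩ := isOpen_induced_iff.1 hs.2
  obtain ⟨V, hV, hVs⟩ := isOpen_induced_iff.1 hs.compl.2
  have hcov : U ∪ V = Set.univ := by
    by_contra h
    have hne : ((U ∪ V)ᶜ).Nonempty := Set.nonempty_compl.2 h
    obtain ⟨p, hp, hpc⟩ := nonempty_inter_closedPoints hne (hU.union hV).isClosed_compl.isLocallyClosed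
    obtain ⟨x, rfl⟩ := hsurj p hpc
    apply hp
    by_cases hx : x ∈ s
    · exact Or.inl (by rw [← hUs] at hx; exact hx)
    · exact Or.inr (by rw [← Set.mem_compl_iff, ← hVs] at hx; exact hx)
  have hdisj : U ∩ V = ∅ := by
    by_contra h
    obtain ⟨p, hp, hpc⟩ := nonempty_inter_closedPoints (Set.nonempty_iff_ne_empty.2 h)
      (hU.inter hV).isLocallyClosed
    obtain ⟨x, rfl⟩ := hsurj p hpc
    have h1 : x ∈ s := hUs ▸ (hp.1 : x ∈ toPrime ⁻¹' U)
    have h2 : x ∈ sᶜ := hVs ▸ (hp.2 : x ∈ toPrime ⁻¹' V)
    exact h2 h1
  have hclop : IsClopen U := by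
    refine ⟨?_, hU⟩
    have : U = Vᶜ := by
      ext p
      have h1 := Set.ext_iff.1 hcov p
      have h2 := Set.ext_iff.1 hdisj p
      simp only [Set.mem_union, Set.mem_univ, iff_true, Set.mem_inter_iff, Set.mem_empty_iff_false, iff_false,
        not_and] at h1 h2
      exact ⟨h2, fun h => h1.resolve_right h⟩
    rw [this]
    exact hV.isClosed_compl
  obtain ⟨e, he, heU⟩ := PrimeSpectrum.isClopen_iff.1 hclop
  rcases hconn e he with rfl | rfl
  · left; rw [← hUs, heU]; simp
  · right; rw [← hUs, heU]; simp

variable {V : Type w} [AddCommGroup V] [Module k V] [HopfRep.Comod k A V]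

variable (V) in
/-- a comodule as a representation of the rational points -/
def actHom : Pts k A →* Module.End k V where
  toFun g := HopfRep.Comod.act k A V g.ofConv
  map_one' := by
    apply LinearMap.ext; intro v
    rw [show HopfRep.Comod.act k A V (1 : Pts k A).ofConv v =
      Comod.contract (1 : Pts k A).ofConv.toLinearMap v from rfl]
    rw [show (1 : Pts k A).ofConv.toLinearMap = Coalgebra.counit (R := k) (A := A) from LinearMap.ext fun a => by simp]
    exact Comod.contract_counit v
  map_mul' g h := by
    apply LinearMap.ext; intro v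
    show Comod.contract (g * h).ofConv.toLinearMap v =
      Comod.contract g.ofConv.toLinearMap (Comod.contract h.ofConv.toLinearMap v)
    rw [Comod.contract_contract]
    rfl

theorem actHom_apply (g : Pts k A) (v : V) :
    actHom V g v = Comod.contract g.ofConv.toLinearMap v := rfl

theorem dual_contract (f : Module.Dual k V) (φ : A →ₗ[k] k) (v : V) :
    f (Comod.contract φ v) = φ (TensorProduct.lid k A (f.rTensor A (HopfRep.Comod.coact (k := k) (A := A) v))) := by
  rw [Comod.contract_apply]
  generalize HopfRep.Comod.coact (k := k) (A := A) v = z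
  induction z using TensorProduct.induction_on with
  | zero => simp
  | tmul a b => simp [mul_comm]
  | add a b ha hb => simp only [map_add, ha, hb]

theorem adm_actHom : letI := zariski (k := k) (A := A); Adm (actHom (k := k) (A := A) V) := by
  letI := zariski (k := k) (A := A)
  intro v f c
  simp only [actHom_apply, dual_contract, AlgHom.toLinearMap_apply]
  exact isClosed_setOf_eq _ c

theorem eq_zero_of_forall_point [IsAlgClosed k] [Algebra.FiniteType k A] [IsReduced A] (a : A)
    (h : ∀ x : A →ₐ[k] k, x a = 0) : a = 0 := by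
  haveI : IsJacobsonRing A := isJacobsonRing_of_finiteType (A := k)
  have hj : (⊥ : Ideal A).jacobson = ⊥ := IsJacobsonRing.out (R := A) inferInstance (by
    rw [Ideal.isRadical_iff_quotient_reduced]
    exact isReduced_of_injective (RingEquiv.quotientBot A) (RingEquiv.quotientBot A).injective)
  rw [← Ideal.mem_bot, ← hj, Ideal.jacobson, Submodule.mem_sInf]
  rintro m ⟨-, hm⟩
  letI : Field (A ⧸ m) := Ideal.Quotient.field _
  haveI : Algebra.FiniteType k (A ⧸ m) :=
    Algebra.FiniteType.of_surjective (Ideal.Quotient.mkₐ k m) (Ideal.Quotient.mkₐ_surjective k _)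
  haveI : Module.Finite k (A ⧸ m) := finite_of_finite_type_of_isJacobsonRing k _
  have hbij := IsAlgClosed.algebraMap_bijective_of_isIntegral (k := k) (K := A ⧸ m)
  let e := (AlgEquiv.ofBijective (Algebra.ofId k _) hbij).symm
  have := h ((e : A ⧸ m →ₐ[k] k).comp (Ideal.Quotient.mkₐ k m))
  rw [← Ideal.Quotient.eq_zero_iff_mem]
  simpa using this

end Groth.Agent.LieKolchin
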